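import Cfsg.Agent.Spor.ON.Net
import Cfsg.Agent.Spor.ON.SatR0
import Cfsg.Agent.Spor.ON.SatR1
import Cfsg.Agent.Spor.ON.SatI

set_option autoImplicit false
set_option Elab.async false
set_option maxRecDepth 100000

namespace Cfsg.Agent.Spor.ONC.M

open Cfsg.Agent.Comp.BN

theorem sat_rel_0 : ∀ r ∈ ([[2, 3, 2, 3, 2, 3], [2, 4, 2, 4], [2, 5, 2, 5], [2, 6, 2, 6], [2, 7, 2, 7], [3, 4, 3, 4, 3, 4], [3, 5, 3, 5], [3, 6, 3, 6], [3, 7, 3, 7], [4, 5, 4, 5, 4, 5, 4, 5, 4, 5, 4, 5, 4, 5, 4, 5], [4, 6, 4, 6], [4, 7, 4, 7], [5, 6, 5, 6, 5, 6], [5, 7, 5, 7], [6, 7, 6, 7, 6, 7], [2, 7, 1, 1], [2, 7, 5, 4, 5, 4, 5, 4, 5, 4], [4, 1, 5, 1, 5, 4, 5, 0, 5, 0], [5, 1, 4, 1, 4, 5, 4, 0, 4, 0], [3, 4, 5, 0, 3, 4, 5, 0, 3, 4, 5, 0,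 3, 4, 5, 0, 3, 4, 5, 0], [0, 3, 4, 0, 4, 3, 0, 3, 4, 0, 4], [0, 6, 5, 0, 5, 6, 0, 6, 5, 0, 5]] : List (List ℕ)), ev Cfsg.Agent.Spor.ONC.M.π r = 1 :=
  rels_of_checks Cfsg.Agent.Spor.ONC.M.spec (K := 17) (by decide) sat_inv _ [[0, 1, 2], [3, 4, 5], [6, 7, 8], [9, 10, 11], [12, 13, 14], [15, 16]] (by decide) ⟨sat_rel_0_0, sat_rel_0_1, sat_rel_0_2, sat_rel_0_3, sat_rel_0_4, sat_rel_0_5, trivial⟩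

theorem sat_rel : ∀ r ∈ ([[2, 3, 2, 3, 2, 3], [2, 4, 2, 4], [2, 5, 2, 5], [2, 6, 2, 6], [2, 7, 2, 7], [3, 4, 3, 4, 3, 4], [3, 5, 3, 5], [3, 6, 3, 6], [3, 7, 3, 7], [4, 5, 4, 5, 4, 5, 4, 5, 4, 5, 4, 5, 4, 5, 4, 5], [4, 6, 4, 6], [4, 7, 4, 7], [5, 6, 5, 6, 5, 6], [5, 7, 5, 7], [6, 7, 6, 7, 6, 7], [2, 7, 1, 1], [2, 7, 5, 4, 5, 4, 5, 4, 5, 4], [4, 1, 5, 1, 5, 4, 5, 0, 5, 0], [5, 1, 4, 1, 4, 5, 4, 0, 4, 0], [3, 4, 5, 0, 3, 4, 5, 0, 3, 4, 5, 0, 3, 4, 5, 0, 3, 4, 5, 0], [0, 3, 4, 0, 4, 3, 0, 3, 4, 0, 4], [0, 6, 5, 0, 5, 6, 0, 6, 5, 0, 5]] : List (List ℕ)), ev Cfsg.Agent.Spor.ONC.M.π r = 1 :=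
  rels_join [[[2, 3, 2, 3, 2, 3], [2, 4, 2, 4], [2, 5, 2, 5], [2, 6, 2, 6], [2, 7, 2, 7], [3, 4, 3, 4, 3, 4], [3, 5, 3, 5], [3, 6, 3, 6], [3, 7, 3, 7], [4, 5, 4, 5, 4, 5, 4, 5, 4, 5, 4, 5, 4, 5, 4, 5], [4, 6, 4, 6], [4, 7, 4, 7], [5, 6, 5, 6, 5, 6], [5, 7, 5, 7], [6, 7, 6, 7, 6, 7], [2, 7, 1, 1], [2, 7, 5, 4, 5, 4, 5, 4, 5, 4], [4, 1, 5, 1, 5, 4, 5, 0, 5, 0], [5, 1, 4, 1, 4, 5, 4, 0, 4, 0], [3, 4, 5, 0, 3, 4, 5, 0, 3, 4, 5, 0, 3, 4, 5, 0, 3, 4, 5, 0], [0, 3, 4, 0, 4, 3, 0, 3, 4, 0, 4], [0, 6, 5, 0, 5, 6, 0, 6, 5, 0, 5]]] ⟨sat_rel_0, trivial⟩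

theorem sat : Sat Cfsg.Agent.Spor.ONC.P Cfsg.Agent.Spor.ONC.M.π :=
  ⟨Cfsg.Agent.Spor.ONC.M.out, sat_inv, sat_rel⟩

theorem satA : Sat Cfsg.Agent.Spor.ONC.PA Cfsg.Agent.Spor.ONC.M.π :=
  sat.addC ⟨Cfsg.Agent.Spor.ONC.l1, trivial⟩

end Cfsg.Agent.Spor.ONC.M
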